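import Cfsg.Agent.H699.RC.PR7
import Cfsg.Agent.H120.RC.Ord

/-!
# TEAM RC (S4191), task PR7: `CorePrim p 1 0 2` for `p ≥ 7`
-/

set_option autoImplicit false

namespace Cfsg.Agent.H699.RC

open Cfsg.Agent.H527.RC Cfsg.Agent.H822.Cls

universe u

theorem ordCA : OrdCA.{u} := by
  intro H W F _ _ _ _ _ _ _ _ _ _ D Q m hD _
  exact Cfsg.Agent.H120.RC.relIndex_cent_le D hD

/-- **PR7** -/
theorem corePrim_ge {p : ℕ} (hp : p.Prime) (h7 : 7 ≤ p) : CorePrim.{u} p 1 0 2 := corePrim_ge_of ordCA hp h7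

end Cfsg.Agent.H699.RC
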