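import Cfsg.Agent.H699.RC.Bad

/-!
# TEAM RC (S4191), task PR7: primitive linear groups, `p ≥ 7`

* `card_bad_le` : the number of bad vectors;
* `orbs_two_of_card` : more than `|H|` good vectors give two orbits;
* `corePrim_ge_of` : `CorePrim p 1 0 2` for `p ≥ 7` from the bound `|C(A) : S| ≤ e ^ 6`.
-/

set_option autoImplicit false
set_option linter.unusedSectionVars false

namespace Cfsg.Agent.H699.RC

open Cfsg.Agent.H527.RC Cfsg.Agent.H822.Cls Cfsg.Agent.H668.Dim
open scoped Pointwise commutatorElement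

universe u

/-- the bound for `C(A) / S` (task ORDP) -/
def OrdCA : Prop := ∀ (H W F : Type u) [Group H] [Finite H] [Group.IsSolvable H] [AddCommGroup W] [Finite W]
    [Nontrivial W] [DistribMulAction H W] [Field F] [Finite F] [Module F W] (D : Prim H W F) (Q : Finset ℕ)
    (m : ℕ → ℕ), D.Num Q m → (∀ h : H, (∀ w : W, h • w = w) → h = 1) →
    D.S.relIndex (Subgroup.centralizer (D.A : Set H)) ≤ (∏ q ∈ Q, q ^ m q) ^ 6

/-! ### Numbers -/

theorem pow_step {e : ℕ} (he : 81 ≤ e) : (e + 1) ^ 16 ≤ 3 * e ^ 16 := by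
  have h1 : (e + 1) * 81 ≤ 82 * e := by omega
  have h2 : (e + 1) ^ 16 * 81 ^ 16 ≤ 82 ^ 16 * e ^ 16 := by
    rw [← mul_pow, ← mul_pow]
    exact Nat.pow_le_pow_left h1 16
  have h3 : 82 ^ 16 * e ^ 16 ≤ 3 * 81 ^ 16 * e ^ 16 := Nat.mul_le_mul_right _ (by norm_num)
  have h4 : (e + 1) ^ 16 * 81 ^ 16 ≤ (3 * e ^ 16) * 81 ^ 16 := by
    calc _ ≤ _ := h2.trans h3
      _ = _ := by ring
  exact Nat.le_of_mul_le_mul_right h4 (by norm_num)

theorem key_four {e : ℕ} (he : 81 ≤ e) : 16 * e ^ 16 ≤ 4 ^ (e - 2) := by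
  induction e, he using Nat.le_induction with
  | base => norm_num
  | succ e he ih =>
    have h1 : e + 1 - 2 = (e - 2) + 1 := by omega
    rw [h1, pow_succ]
    have h2 := pow_step he
    calc 16 * (e + 1) ^ 16 ≤ 16 * (3 * e ^ 16) := Nat.mul_le_mul_left _ h2
      _ = 3 * (16 * e ^ 16) := by ring
      _ ≤ 3 * 4 ^ (e - 2) := Nat.mul_le_mul_left _ ih
      _ ≤ 4 ^ (e - 2) * 4 := by omega

theorem key_three {e : ℕ} (he : 128 ≤ e) : 16 * e ^ 16 ≤ 3 ^ (e - 2) := by
  induction e, he using Nat.le_induction with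
  | base => norm_num
  | succ e he ih =>
    have h1 : e + 1 - 2 = (e - 2) + 1 := by omega
    rw [h1, pow_succ]
    have h2 := pow_step (show 81 ≤ e by omega)
    calc 16 * (e + 1) ^ 16 ≤ 16 * (3 * e ^ 16) := Nat.mul_le_mul_left _ h2
      _ = 3 * (16 * e ^ 16) := by ring
      _ ≤ 3 * 3 ^ (e - 2) := Nat.mul_le_mul_left _ ih
      _ = 3 ^ (e - 2) * 3 := by ring

theorem key {f e : ℕ} (h : (4 ≤ f ∧ 81 ≤ e) ∨ (3 ≤ f ∧ 128 ≤ e)) : 16 * e ^ 16 ≤ f ^ (e - 2) := by
  rcases h with ⟨hf, he⟩ | ⟨hf, he⟩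
  · exact (key_four he).trans (Nat.pow_le_pow_left hf _)
  · exact (key_three he).trans (Nat.pow_le_pow_left hf _)

theorem count_ineq {f e d a h s t : ℕ} (hf : (4 ≤ f ∧ 81 ≤ e) ∨ (3 ≤ f ∧ 128 ≤ e)) (hed : e ≤ d)
    (ha : a ≤ f * e ^ 8) (hh : h ≤ f * (f * e ^ 8)) (hs : s ^ 2 ≤ f ^ d) (ht : t ^ 7 ≤ f ^ d) (ht1 : 1 ≤ t) :
    a * s + h * t + h < f ^ d := by
  have hk := key hf
  have hf3 : 3 ≤ f := by omega
  have he81 : 81 ≤ e := by omega
  have hfe : f ^ e = f ^ (e - 2) * f ^ 2 := by rw [← pow_add]; congr 1; omega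
  have hV : f ^ e ≤ f ^ d := Nat.pow_le_pow_right (by omega) hed
  set V := f ^ d with hVdef
  have hVpos : 0 < V := pow_pos (by omega) _
  -- `16 N ^ 2 ≤ V`
  have h1 : 16 * (f * e ^ 8) ^ 2 ≤ V := by
    calc 16 * (f * e ^ 8) ^ 2 = (16 * e ^ 16) * f ^ 2 := by ring
      _ ≤ f ^ (e - 2) * f ^ 2 := Nat.mul_le_mul_right _ hk
      _ ≤ V := by rw [← hfe]; exact hV
  -- the first summand
  have h2 : 4 * (a * s) ≤ V := by
    have h3 : (4 * (a * s)) ^ 2 ≤ V ^ 2 := by
      calc (4 * (a * s)) ^ 2 ≤ (4 * ((f * e ^ 8) * s)) ^ 2 :=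
            Nat.pow_le_pow_left (Nat.mul_le_mul_left _ (Nat.mul_le_mul_right _ ha)) 2
        _ = (16 * (f * e ^ 8) ^ 2) * s ^ 2 := by ring
        _ ≤ V * V := Nat.mul_le_mul h1 hs
        _ = V ^ 2 := by ring
    exact (Nat.pow_le_pow_iff_left two_ne_zero).1 h3
  -- the second summand
  have h4 : 4 * (h * t) ≤ V := by
    have h5 : (4 * (h * t)) ^ 7 ≤ V ^ 7 := by
      have h6 : 4 ^ 7 * (f * (f * e ^ 8)) ^ 7 ≤ V ^ 6 := by
        have h7 : (16 * e ^ 16) ^ 4 ≤ (f ^ (e - 2)) ^ 4 := Nat.pow_le_pow_left hk 4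
        have h8 : 4 ^ 7 * e ^ 56 ≤ (16 * e ^ 16) ^ 4 := by
          calc 4 ^ 7 * e ^ 56 ≤ 16 ^ 4 * e ^ 64 :=
                Nat.mul_le_mul (by norm_num) (Nat.pow_le_pow_right (by omega) (by norm_num))
            _ = (16 * e ^ 16) ^ 4 := by ring
        calc 4 ^ 7 * (f * (f * e ^ 8)) ^ 7 = f ^ 14 * (4 ^ 7 * e ^ 56) := by ring
          _ ≤ f ^ 14 * (f ^ (e - 2)) ^ 4 := Nat.mul_le_mul_left _ (h8.trans h7)
          _ = f ^ (14 + (e - 2) * 4) := by rw [← pow_mul, ← pow_add]
          _ ≤ f ^ (d * 6) := Nat.pow_le_pow_right (by omega) (by omega)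
          _ = V ^ 6 := by rw [hVdef, ← pow_mul]
      calc (4 * (h * t)) ^ 7 ≤ (4 * ((f * (f * e ^ 8)) * t)) ^ 7 :=
            Nat.pow_le_pow_left (Nat.mul_le_mul_left _ (Nat.mul_le_mul_right _ hh)) 7
        _ = (4 ^ 7 * (f * (f * e ^ 8)) ^ 7) * t ^ 7 := by ring
        _ ≤ V ^ 6 * V := Nat.mul_le_mul h6 ht
        _ = V ^ 7 := by ring
    exact (Nat.pow_le_pow_iff_left (by norm_num)).1 h5
  have h9 : h ≤ h * t := Nat.le_mul_of_pos_right _ ht1
  omega

/-! ### Orbits and bad vectors -/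

theorem orbs_two_of_card {H W : Type*} [Group H] [Finite H] [Finite W] [MulAction H W] (Q : W → Prop)
    (h : Nat.card H < Nat.card {w : W // Q w}) : Orbs H 2 Q := by
  classical
  have hne : Nonempty {w : W // Q w} := by
    rw [← not_isEmpty_iff]
    intro h1
    have h2 : Nat.card {w : W // Q w} = 0 := Nat.card_of_isEmpty
    omega
  obtain ⟨w0, hw0⟩ := hne
  have h1 : ∃ w1 : W, Q w1 ∧ w1 ∉ MulAction.orbit H w0 := by
    by_contra hcon
    push Not at hcon
    have h2 : ∀ w : {w : W // Q w}, ∃ g : H, g • w0 = w.1 := fun w => hcon w.1 w.2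
    choose g hg using h2
    have h3 : Nat.card {w : W // Q w} ≤ Nat.card H := by
      refine Nat.card_le_card_of_injective g fun a b hab => ?_
      apply Subtype.ext
      rw [← hg a, ← hg b, hab]
    omega
  obtain ⟨w1, hw1, hw1'⟩ := h1
  refine ⟨![w0, w1], ?_, ?_⟩
  · intro i
    fin_cases i
    · exact hw0
    · exact hw1
  · intro i j g hg
    fin_cases i <;> fin_cases j
    · rfl
    · exact absurd ⟨g, hg⟩ hw1'
    · exfalso
      apply hw1'
      refine ⟨g⁻¹, ?_⟩
      have h2 : g • w1 = w0 := hg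
      show g⁻¹ • w0 = w1
      rw [← h2, inv_smul_smul]
    · rfl

theorem card_iUnion_le {ι W : Type*} [Finite ι] [Finite W] (B : ι → Set W) (c : ℕ)
    (h : ∀ i, Nat.card (B i) ≤ c) : Nat.card {w : W // ∃ i, w ∈ B i} ≤ Nat.card ι * c := by
  classical
  have := Fintype.ofFinite ι
  have := Fintype.ofFinite W
  have h1 : Nat.card {w : W // ∃ i, w ∈ B i} = (Finset.univ.biUnion fun i => (B i).toFinset).card := by
    rw [Nat.card_eq_fintype_card, Fintype.card_subtype]
    congr 1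
    ext w
    simp
  rw [h1, Nat.card_eq_fintype_card, ← Finset.card_univ]
  refine Finset.card_biUnion_le_card_mul _ _ _ fun i _ => ?_
  have h2 := h i
  rw [Nat.card_eq_fintype_card, ← Set.toFinset_card] at h2
  exact h2

/-- the number of bad vectors -/
theorem card_bad_le {H W : Type*} [Group H] [Finite H] [Finite W] [MulAction H W] (C : Subgroup H) (Y : Set H)
    {s t : ℕ} (hs : ∀ y ∈ Y, y ∈ C → Nat.card {w : W // y • w = w} ≤ s)
    (ht : ∀ y ∈ Y, y ∉ C → Nat.card {w : W // y • w = w} ≤ t) :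
    Nat.card {w : W // ∃ y ∈ Y, y • w = w} ≤ Nat.card C * s + Nat.card H * t := by
  classical
  have h1 : Nat.card {w : W // ∃ y : C, w ∈ {w : W | (y : H) ∈ Y ∧ (y : H) • w = w}} ≤ Nat.card C * s := by
    refine card_iUnion_le _ s fun y => ?_
    by_cases hy : (y : H) ∈ Y
    · refine le_trans (Nat.card_le_card_of_injective (fun w => ⟨w.1, w.2.2⟩) ?_) (hs y hy y.2)
      intro a b hab
      simp only [Subtype.mk.injEq] at hab
      exact Subtype.ext hab
    · have : IsEmpty ({w : W | (y : H) ∈ Y ∧ (y : H) • w = w} : Set W) := ⟨fun w => hy w.2.1⟩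
      rw [Nat.card_of_isEmpty]
      exact Nat.zero_le _
  have h2 : Nat.card {w : W // ∃ y : H, w ∈ {w : W | y ∈ Y ∧ y ∉ C ∧ y • w = w}} ≤ Nat.card H * t := by
    refine card_iUnion_le _ t fun y => ?_
    by_cases hy : y ∈ Y ∧ y ∉ C
    · refine le_trans (Nat.card_le_card_of_injective (fun w => ⟨w.1, w.2.2.2⟩) ?_) (ht y hy.1 hy.2)
      intro a b hab
      simp only [Subtype.mk.injEq] at hab
      exact Subtype.ext hab
    · have : IsEmpty ({w : W | y ∈ Y ∧ y ∉ C ∧ y • w = w} : Set W) := ⟨fun w => hy ⟨w.2.1, w.2.2.1⟩⟩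
      rw [Nat.card_of_isEmpty]
      exact Nat.zero_le _
  refine le_trans ?_ (Nat.add_le_add h1 h2)
  rw [← Nat.card_sum]
  refine Nat.card_le_card_of_injective (fun w =>
    if h : ∃ y : C, w.1 ∈ {w : W | (y : H) ∈ Y ∧ (y : H) • w = w} then Sum.inl ⟨w.1, h⟩
    else Sum.inr ⟨w.1, by
      obtain ⟨y, hy, hyw⟩ := w.2
      exact ⟨y, hy, fun hyC => h ⟨⟨y, hyC⟩, hy, hyw⟩, hyw⟩⟩) ?_
  intro a b hab
  dsimp only at hab
  split_ifs at hab with h3 h4 h4
  · simp only [Sum.inl.injEq, Subtype.mk.injEq] at hab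
    exact Subtype.ext hab
  · simp only [Sum.inr.injEq, Subtype.mk.injEq] at hab
    exact Subtype.ext hab

/-- the automorphisms of a finite field -/
theorem card_aut_le (F : Type*) [Field F] [Finite F] : Nat.card (F ≃+* F) ≤ Nat.card F := by
  obtain ⟨u, hu⟩ := IsCyclic.exists_generator (α := Fˣ)
  refine Nat.card_le_card_of_injective (fun σ : F ≃+* F => σ u) fun σ τ h => ?_
  ext x
  by_cases hx : x = 0
  · rw [hx, map_zero, map_zero]
  · obtain ⟨k, hk⟩ := Subgroup.mem_zpowers_iff.1 (hu (Units.mk0 x hx))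
    have h1 : x = (u : F) ^ k := by
      rw [← Units.val_zpow_eq_zpow_val, hk]
      rfl
    have h2 : σ u = τ u := h
    rw [h1, map_zpow₀, map_zpow₀, h2]

section

variable {H W F : Type u} [Group H] [Finite H] [AddCommGroup W] [Finite W] [Nontrivial W]
  [DistribMulAction H W] [Field F] [Finite F] [Module F W] (D : Prim H W F)

theorem card_A_le : Nat.card D.A ≤ Nat.card F - 1 := by
  have h1 : Nat.card D.A ≤ Nat.card Fˣ := Nat.card_le_card_of_injective _ D.ι_inj
  rwa [Nat.card_units] at h1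

/-- `|C(A)| = |A| |S : A| |C(A) : S|` -/
theorem card_cent : Nat.card (Subgroup.centralizer (D.A : Set H)) =
    Nat.card D.A * D.A.relIndex D.S * D.S.relIndex (Subgroup.centralizer (D.A : Set H)) := by
  have h1 : Nat.card D.A * D.A.relIndex D.S = Nat.card D.S := by
    rw [← Subgroup.relIndex_bot_left, ← Subgroup.relIndex_bot_left (H := D.S)]
    exact Subgroup.relIndex_mul_relIndex _ _ _ bot_le D.A_le
  have h2 : Nat.card D.S * D.S.relIndex (Subgroup.centralizer (D.A : Set H)) =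
      Nat.card (Subgroup.centralizer (D.A : Set H)) := by
    rw [← Subgroup.relIndex_bot_left, ← Subgroup.relIndex_bot_left (H := Subgroup.centralizer (D.A : Set H))]
    exact Subgroup.relIndex_mul_relIndex _ _ _ bot_le D.S_le
  rw [h1, h2]

/-- `|H| ≤ |F| |C(A)|` -/
theorem card_le_cent : Nat.card H ≤ Nat.card F * Nat.card (Subgroup.centralizer (D.A : Set H)) := by
  have h1 : (Subgroup.centralizer (D.A : Set H)).index ≤ Nat.card F := by
    rw [← D.σ_ker, Subgroup.index_ker]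
    have : Finite (F ≃+* F) := Finite.of_injective (fun σ : F ≃+* F => (σ : F → F)) DFunLike.coe_injective
    exact (Subgroup.card_le_card_group _).trans (card_aut_le F)
  rw [← Subgroup.card_mul_index (Subgroup.centralizer (D.A : Set H)), mul_comm]
  exact Nat.mul_le_mul_right _ h1

/-- a `p`-element `y` with `[L, y]` not nilpotent acts nontrivially on `S / A` -/
theorem exists_moved {L : Subgroup H} {y : H} {q : ℕ} (h : ¬ ∀ x ∈ ⁅L, Subgroup.zpowers y⁆, D.Triv q x) :
    ∃ s ∈ D.S, y * s * y⁻¹ * s⁻¹ ∉ D.A := by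
  by_contra hcon
  push Not at hcon
  apply h
  intro x hx
  rw [← rho_eq_one_iff]
  have h1 : Subgroup.zpowers y ≤ (rho D q).ker := by
    rw [Subgroup.zpowers_le, MonoidHom.mem_ker, rho_eq_one_iff]
    exact fun s hs _ => hcon s hs
  have h2 : ⁅L, Subgroup.zpowers y⁆ ≤ (rho D q).ker :=
    (Subgroup.commutator_mono le_rfl h1).trans (Subgroup.commutator_le_right _ _)
  exact h2 hx

end

/-- **PR7**: primitive linear groups, `p ≥ 7` -/
theorem corePrim_ge_of (hO : OrdCA.{u}) {p : ℕ} (hp : p.Prime) (h7 : 7 ≤ p) : CorePrim.{u} p 1 0 2 := by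
  classical
  intro H W _ _ _ _ _ _ _ L r hL hr hrp hrW hfaith hirr hI
  right
  by_cases hbad : ∃ y : H, PEl p y ∧ ¬ FH 1 (⁅L, Subgroup.zpowers y⁆ : Subgroup H)
  swap
  · -- all vectors are good
    push Not at hbad
    have hg : ∀ w : W, Gd p 1 L w := fun w y hy _ => hbad y hy
    obtain ⟨w, hw⟩ := exists_ne (0 : W)
    refine ⟨![0, w], fun i => hg _, ?_⟩
    intro i j g hgij
    fin_cases i <;> fin_cases j
    · rfl
    · exfalso
      have h1 : g • (0 : W) = w := hgij
      rw [smul_zero] at h1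
      exact hw h1.symm
    · exfalso
      have h1 : g • w = (0 : W) := hgij
      apply hw
      rw [← inv_smul_smul g w, h1, smul_zero]
    · rfl
  -- the primitive data
  have hirr' : Irr H W := fun X hX => hirr X fun g _ => hX g
  obtain ⟨F, _, _, _, ⟨D⟩⟩ := existsPrim H W r hr hrW hfaith hirr' hI
  obtain ⟨Q, m, hD⟩ := Cfsg.Agent.H308.ClsNum.exists_num H W F D
  have hpQ := not_mem D hp hL hirr hfaith hD
  have hfin : Module.Finite F W := Module.Finite.of_finite
  set f := Nat.card F with hf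
  set d := Module.finrank F W with hd
  have hWcard : Nat.card W = f ^ d := Module.natCard_eq_pow_finrank (K := F) (V := W)
  have hf2 : 2 ≤ f := Finite.one_lt_card
  set e := ∏ q ∈ Q, q ^ m q with he
  have hed : e ≤ d := hD.le_finrank
  -- the bound for `e`
  have hfe : (4 ≤ f ∧ 81 ≤ e) ∨ (3 ≤ f ∧ 128 ≤ e) := by
    obtain ⟨y, hy, hyb⟩ := hbad
    obtain ⟨q, hqQ, hqp, hq, h2, h3⟩ := bad_dim D hp hL hirr hfaith hD hy hyb
    have hqpr := hD.prime q hqQ
    have hqe : q ^ m q ≤ e := by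
      refine Nat.le_of_dvd (Finset.prod_pos fun q hq => pow_pos (hD.prime q hq).pos _) ?_
      exact Finset.dvd_prod_of_mem (fun q => q ^ m q) hqQ
    have hqf : q ∣ f - 1 := hD.dvd q hqQ
    have hqf' : q ≤ f - 1 := Nat.le_of_dvd (by omega) hqf
    by_cases hq2 : q = 2
    · right
      subst hq2
      refine ⟨by omega, le_trans ?_ hqe⟩
      calc 128 = 2 ^ 7 := by norm_num
        _ ≤ 2 ^ m 2 := Nat.pow_le_pow_right (by norm_num) (by have := h2 rfl; omega)
    · left
      have h4 := h3 hq2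
      have hq3 : 3 ≤ q := by
        have := hqpr.two_le
        omega
      have hm4 : 4 ≤ m q := by
        rcases Nat.lt_or_ge 7 p with h5 | h5
        · by_contra h6
          have h8 : p = 8 ∨ p ≤ 7 := by omega
          rcases h8 with h8 | h8
          · rw [h8] at hp
            exact absurd hp (by norm_num)
          · omega
        · exact h4.2 (by omega)
      refine ⟨by omega, le_trans ?_ hqe⟩
      calc 81 = 3 ^ 4 := by norm_num
        _ ≤ q ^ 4 := Nat.pow_le_pow_left hq3 4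
        _ ≤ q ^ m q := Nat.pow_le_pow_right (by omega) hm4
  -- orders
  set C := Subgroup.centralizer (D.A : Set H) with hC
  have hCcard : Nat.card C ≤ f * e ^ 8 := by
    have h1 := card_cent D
    have h2 := hO H W F D Q m hD hfaith
    rw [← hC, ← he] at h2
    rw [← hC, hD.relIndex, ← he] at h1
    rw [h1]
    have h3 := card_A_le D
    calc Nat.card D.A * e ^ 2 * D.S.relIndex C ≤ f * e ^ 2 * e ^ 6 :=
          Nat.mul_le_mul (Nat.mul_le_mul_right _ (by omega)) h2
      _ = f * e ^ 8 := by ring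
  have hHcard : Nat.card H ≤ f * (f * e ^ 8) := (card_le_cent D).trans (Nat.mul_le_mul_left _ hCcard)
  -- bad vectors
  set Y : Set H := {y | PEl p y ∧ ¬ FH 1 (⁅L, Subgroup.zpowers y⁆ : Subgroup H)} with hY
  set s := Nat.sqrt (Nat.card W) with hs
  set t := Nat.findGreatest (fun t => t ^ 7 ≤ Nat.card W) (Nat.card W) with ht
  have hs2 : s ^ 2 ≤ Nat.card W := Nat.sqrt_le' _
  have ht7 : t ^ 7 ≤ Nat.card W := by
    refine Nat.findGreatest_spec (P := fun t => t ^ 7 ≤ Nat.card W) (m := 0) (Nat.zero_le _) ?_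
    show 0 ^ 7 ≤ _
    exact Nat.zero_le _
  have htmax : ∀ c : ℕ, c ^ 7 ≤ Nat.card W → c ≤ t := by
    intro c hc
    exact Nat.le_findGreatest ((Nat.le_self_pow (by norm_num) c).trans hc) hc
  have ht1 : 1 ≤ t := htmax 1 (by rw [one_pow]; exact Nat.card_pos)
  have hb := card_bad_le (W := W) C Y (s := s) (t := t)
    (by
      intro y hy hyC
      obtain ⟨q, hqQ, hqp, hq, -, -⟩ := bad_dim D hp hL hirr hfaith hD hy.1 hy.2
      obtain ⟨k, hk⟩ := hy.1
      obtain ⟨j, -, hj⟩ := (Nat.dvd_prime_pow hp).1 (orderOf_dvd_of_pow_eq_one hk)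
      have h1 := fixedSq H W F D y hyC
        (by rw [hj]; exact (hp.odd_of_ne_two (by omega)).pow)
        (by
          rw [hj, hD.relIndex]
          refine Nat.Coprime.pow_left _ (Nat.Coprime.pow_right _ ?_)
          refine Nat.Coprime.prod_right fun q hq => Nat.Coprime.pow_right _ ?_
          rw [Nat.coprime_primes hp (hD.prime q hq)]
          rintro rfl
          exact hpQ hq) (exists_moved D hq)
      rw [hs, Nat.le_sqrt']
      exact h1)
    (by
      intro y hy hyC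
      have h1 := fixedPow H W F D p hp y hy.1 hyC
      apply htmax
      rcases Nat.eq_zero_or_pos (Nat.card {w : W // y • w = w}) with h2 | h2
      · rw [h2]
        simp
      · exact (Nat.pow_le_pow_right h2 h7).trans h1)
  -- the good vectors
  have hcomp : Nat.card W ≤ Nat.card {w : W // Gd p 1 L w} + Nat.card {w : W // ∃ y ∈ Y, y • w = w} := by
    rw [← Nat.card_sum]
    refine Nat.card_le_card_of_injective (fun w =>
      if h : Gd p 1 L w then Sum.inl ⟨w, h⟩ else Sum.inr ⟨w, by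
        unfold Gd at h
        push Not at h
        obtain ⟨y, hy, hyw, hyb⟩ := h
        exact ⟨y, ⟨hy, hyb⟩, hyw⟩⟩) ?_
    intro a b hab
    dsimp only at hab
    split_ifs at hab with h3 h4 h4
    · exact congrArg Subtype.val (Sum.inl.inj hab)
    · exact congrArg Subtype.val (Sum.inr.inj hab)
  apply orbs_two_of_card
  rw [hWcard] at hs2 ht7
  have h5 := count_ineq hfe hed hCcard hHcard hs2 ht7 ht1
  rw [← hWcard] at h5
  omega

end Cfsg.Agent.H699.RC
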