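import Cfsg.Agent.H527.RC.Stmts
import Cfsg.Agent.H527.RC.FHB
import Cfsg.Agent.H822.Cls.Parts

/-!
# TEAM RC (S4191), task PR7, part 1: bad elements of primitive solvable linear groups

* `comm_of_irr` : the centraliser of an irreducible group is commutative;
* `not_mem` : `p` does not divide `|S / A|`;
* `bad_dim` : if `[L, y]` is not nilpotent for some `p`-element `y` then some `m q` is large.
-/

set_option autoImplicit false
set_option linter.unusedSectionVars false

namespace Cfsg.Agent.H699.RC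

open Cfsg.Agent.H527.RC Cfsg.Agent.H822.Cls Cfsg.Agent.H668.Dim
open scoped Pointwise commutatorElement

universe u

/-- the centraliser of an irreducible group is commutative -/
theorem comm_of_irr {H W : Type*} [Group H] [AddCommGroup W] [Finite W] [Nontrivial W] [DistribMulAction H W]
    (L : Subgroup H) (hirr : ∀ X : AddSubgroup W, (∀ g ∈ L, ∀ w ∈ X, g • w ∈ X) → X = ⊥ ∨ X = ⊤)
    (hfaith : ∀ h : H, (∀ w : W, h • w = w) → h = 1) {x y : H} (hx : ∀ l ∈ L, l * x = x * l)
    (hy : ∀ l ∈ L, l * y = y * l) : x * y = y * x := by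
  classical
  let φ : H →* AddMonoid.End W := DistribMulAction.toAddMonoidEnd H W
  have hφ : ∀ (h : H) (w : W), φ h w = h • w := fun h w => rfl
  let R : Subring (AddMonoid.End W) := Subring.centralizer (φ '' (L : Set H))
  have hR : ∀ r ∈ R, ∀ l ∈ L, ∀ w : W, l • r w = r (l • w) := by
    intro r hr l hl w
    have h1 := Subring.mem_centralizer_iff.1 hr (φ l) ⟨l, hl, rfl⟩
    exact congrArg (fun k : AddMonoid.End W => k w) h1
  have hfin : Finite (AddMonoid.End W) :=
    Finite.of_injective (fun f : AddMonoid.End W => (f : W → W)) DFunLike.coe_injective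
  have hinj : ∀ r ∈ R, r ≠ 0 → ∀ w : W, r w = 0 → w = 0 := by
    intro r hr hr0 w hw
    let Z : AddSubgroup W :=
      { carrier := {w | r w = 0}
        zero_mem' := map_zero r
        add_mem' := fun {a b} ha hb => by
          show r (a + b) = 0
          rw [map_add, show r a = 0 from ha, show r b = 0 from hb, add_zero]
        neg_mem' := fun {a} ha => by
          show r (-a) = 0
          rw [map_neg, show r a = 0 from ha, neg_zero] }
    rcases hirr Z (by
      intro g hg w hw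
      show r (g • w) = 0
      rw [← hR r hr g hg, show r w = 0 from hw, smul_zero]) with h | h
    · have h1 : w ∈ Z := hw
      rw [h] at h1
      exact h1
    · exfalso
      apply hr0
      ext v
      have h1 : v ∈ Z := by rw [h]; trivial
      exact h1
  have hdom : IsDomain R := by
    have h1 : NoZeroDivisors R := by
      refine ⟨fun {a b} hab => ?_⟩
      by_contra hcon
      push Not at hcon
      apply hcon.2
      apply Subtype.ext
      ext v
      refine hinj a.1 a.2 (fun h => hcon.1 (Subtype.ext h)) _ ?_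
      exact congrArg (fun k : R => (k : AddMonoid.End W) v) hab
    have h2 : Nontrivial R := by
      refine ⟨⟨0, 1, fun h => ?_⟩⟩
      obtain ⟨w, hw⟩ := exists_ne (0 : W)
      exact hw (congrArg (fun k : R => (k : AddMonoid.End W) w) h).symm
    exact NoZeroDivisors.to_isDomain R
  have hmem : ∀ z : H, (∀ l ∈ L, l * z = z * l) → φ z ∈ R := by
    intro z hz
    rw [Subring.mem_centralizer_iff]
    rintro _ ⟨l, hl, rfl⟩
    rw [← map_mul, ← map_mul, hz l hl]
  have hfld := Finite.isDomain_to_isField R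
  have h3 := hfld.mul_comm ⟨φ x, hmem x hx⟩ ⟨φ y, hmem y hy⟩
  have h4 : φ (x * y) = φ (y * x) := by
    rw [map_mul, map_mul]
    exact congrArg Subtype.val h3
  have h5 : ∀ w : W, ((y * x)⁻¹ * (x * y)) • w = w := by
    intro w
    rw [mul_smul, inv_smul_eq_iff]
    exact congrArg (fun k : AddMonoid.End W => k w) h4
  have h6 := hfaith _ h5
  rw [inv_mul_eq_one] at h6
  exact h6.symm

section

variable {p : ℕ} {H : Type*} [Group H] [Finite H] {L : Subgroup H}

theorem isPGroup_quotient (hL : LP p L) [L.Normal] : IsPGroup p (H ⧸ L) := by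
  intro g
  obtain ⟨x, rfl⟩ := QuotientGroup.mk_surjective g
  obtain ⟨k, hk⟩ := hL.isP x
  exact ⟨k, (QuotientGroup.eq_one_iff _).2 hk⟩

theorem sup_sylow (hp : p.Prime) (hL : LP p L) (P : Sylow p H) : L ⊔ (P : Subgroup H) = ⊤ := by
  have : Fact p.Prime := ⟨hp⟩
  have hn := hL.normal
  rw [← Subgroup.index_eq_one]
  obtain ⟨k, hk⟩ := IsPGroup.iff_card.1 (isPGroup_quotient hL)
  have h1 : (L ⊔ (P : Subgroup H)).index ∣ p ^ k := by
    rw [← hk]
    exact Subgroup.index_dvd_of_le le_sup_left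
  have h2 : (L ⊔ (P : Subgroup H)).index ∣ (P : Subgroup H).index := Subgroup.index_dvd_of_le le_sup_right
  obtain ⟨j, -, hj⟩ := (Nat.dvd_prime_pow hp).1 h1
  rcases Nat.eq_zero_or_pos j with rfl | hj0
  · rw [hj, pow_zero]
  · exfalso
    rw [hj] at h2
    exact P.not_dvd_index ((dvd_pow_self p (by omega)).trans h2)

theorem commutator_normal (hp : p.Prime) (hL : LP p L) (P : Sylow p H) :
    (⁅L, (P : Subgroup H)⁆ : Subgroup H).Normal := by
  rw [← Subgroup.normalizer_eq_top_iff, eq_top_iff, ← sup_sylow hp hL P]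
  exact sup_le (Cfsg.Agent.Lib.CoprimeCommutator.left_le_normalizer_commutator _ _)
    (Cfsg.Agent.Lib.CoprimeCommutator.right_le_normalizer_commutator _ _)

theorem commutator_le (hL : LP p L) (P : Subgroup H) : ⁅L, P⁆ ≤ L := by
  have := hL.normal
  exact Subgroup.commutator_le_left L P

theorem commutator_commutator (hp : p.Prime) (hL : LP p L) (P : Sylow p H) :
    ⁅⁅L, (P : Subgroup H)⁆, (P : Subgroup H)⁆ = ⁅L, (P : Subgroup H)⁆ := by
  have : Fact p.Prime := ⟨hp⟩
  refine Cfsg.Agent.Lib.CoprimeCommutator.commutator_commutator_eq (P : Subgroup H) L ?_ ?_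
  · have := hL.normal
    rw [Subgroup.normalizer_eq_top]
    exact le_top
  · obtain ⟨n, hn⟩ := IsPGroup.iff_card.1 P.isPGroup'
    rw [hn]
    exact Nat.Coprime.pow_left n ((Nat.Prime.coprime_iff_not_dvd hp).2 hL.cop)

/-- a `p`-element of order prime to `p` is trivial -/
theorem eq_one_of_mem (hp : p.Prime) (hL : LP p L) {x : H} (hx : PEl p x) (hxL : x ∈ L) : x = 1 := by
  obtain ⟨k, hk⟩ := hx
  rw [← orderOf_eq_one_iff]
  refine Nat.eq_one_of_dvd_coprimes (a := p ^ k) (b := Nat.card L) ?_ (orderOf_dvd_of_pow_eq_one hk)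
    (Subgroup.orderOf_dvd_natCard L hxL)
  exact Nat.Coprime.pow_left k ((Nat.Prime.coprime_iff_not_dvd hp).2 hL.cop)

theorem exists_sylow_mem (hp : p.Prime) {y : H} (hy : PEl p y) : ∃ P : Sylow p H, y ∈ (P : Subgroup H) := by
  have : Fact p.Prime := ⟨hp⟩
  obtain ⟨k, hk⟩ := hy
  have h1 : IsPGroup p (Subgroup.zpowers y) := by
    rintro ⟨x, i, rfl⟩
    refine ⟨k, Subtype.ext ?_⟩
    show (y ^ i) ^ p ^ k = 1
    rw [← zpow_natCast, ← zpow_mul, mul_comm i, zpow_mul, zpow_natCast, hk, one_zpow]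
  obtain ⟨P, hP⟩ := h1.exists_le_sylow
  exact ⟨P, hP (Subgroup.mem_zpowers y)⟩

end

section

variable {H W F : Type u} [Group H] [Finite H] [AddCommGroup W] [Finite W] [Nontrivial W]
  [DistribMulAction H W] [Field F] [Finite F] [Module F W] (D : Prim H W F)

/-- `p`-elements of `S` are in `A` -/
theorem mem_A_of_pEl {p : ℕ} (hp : p.Prime) {L : Subgroup H} (hL : LP p L)
    (hirr : ∀ X : AddSubgroup W, (∀ g ∈ L, ∀ w ∈ X, g • w ∈ X) → X = ⊥ ∨ X = ⊤)
    (hfaith : ∀ h : H, (∀ w : W, h • w = w) → h = 1) {t : H} (ht : t ∈ D.S) (htp : PEl p t) : t ∈ D.A := by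
  have : Fact p.Prime := ⟨hp⟩
  have hSn := D.S_normal
  have hLn := hL.normal
  have hnil : Group.IsNilpotent D.S := D.isNilpotent_of_le D.S le_rfl
  -- the Sylow subgroup of `S` is normal in `H`
  obtain ⟨T, hT⟩ := exists_sylow_mem (H := D.S) hp (y := ⟨t, ht⟩) (by
    obtain ⟨k, hk⟩ := htp
    exact ⟨k, Subtype.ext hk⟩)
  have hTn : (T : Subgroup D.S).Normal := ((Group.isNilpotent_of_finite_tfae (G := D.S)).out 0 3 rfl rfl).mp hnil p inferInstance T
  have hTc : (T : Subgroup D.S).Characteristic := T.characteristic_of_normal hTn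
  have hTH : ((T : Subgroup D.S).map D.S.subtype).Normal := inferInstance
  have hcomm : ∀ x ∈ (T : Subgroup D.S), ∀ l ∈ L, l * (x : H) = x * l := by
    intro x hx l hl
    have h1 : ⁅l, (x : H)⁆ ∈ L := by
      rw [commutatorElement_def, mul_assoc, mul_assoc]
      refine L.mul_mem hl ?_
      have := hLn.conj_mem l⁻¹ (L.inv_mem hl) (x : H)
      rwa [mul_assoc] at this
    have h2 : ⁅l, (x : H)⁆ ∈ (T : Subgroup D.S).map D.S.subtype := by
      rw [commutatorElement_def]
      refine Subgroup.mul_mem _ (hTH.conj_mem _ ⟨x, hx, rfl⟩ l) (Subgroup.inv_mem _ ⟨x, hx, rfl⟩)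
    obtain ⟨z, hz, hz1⟩ := h2
    obtain ⟨k, hk⟩ := T.isPGroup' ⟨z, hz⟩
    have h3 : ⁅l, (x : H)⁆ = 1 := by
      refine eq_one_of_mem hp hL ⟨k, ?_⟩ h1
      rw [← hz1]
      exact congrArg (fun w : (T : Subgroup D.S) => ((w : D.S) : H)) hk
    rw [commutatorElement_eq_one_iff_mul_comm] at h3
    exact h3
  apply D.cent_le
  rw [Subgroup.mem_centralizer_iff]
  intro s hs
  -- split off the `p'`-part
  obtain ⟨n, hn, k, hk⟩ := exists_pow_eq s hp
  obtain ⟨j, hj⟩ := htp
  have h1 : ⁅t, s ^ n⁆ = 1 := by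
    obtain ⟨T', hT'⟩ := exists_sylow_mem (H := D.S) hp (y := ⟨s ^ n, D.S.pow_mem hs n⟩) ⟨k, Subtype.ext hk⟩
    have hTT : T' = T := by
      obtain ⟨g, hg⟩ := MulAction.exists_smul_eq D.S T T'
      rw [← hg]
      exact Sylow.smul_eq_of_normal
    rw [hTT] at hT'
    rw [commutatorElement_eq_one_iff_mul_comm]
    exact comm_of_irr L hirr hfaith (hcomm _ hT) (hcomm _ hT')
  have h2 : ⁅t, s⁆ ^ n = 1 := by rw [← cm_pow_right D ht hs, h1]
  have h3 : ⁅t, s⁆ ^ p ^ j = 1 := by rw [← cm_pow_left D ht hs, hj, commutatorElement_one_left]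
  have h4 : ⁅t, s⁆ = 1 := by
    rw [← orderOf_eq_one_iff]
    exact Nat.eq_one_of_dvd_coprimes (Nat.Coprime.pow_left j hn) (orderOf_dvd_of_pow_eq_one h3)
      (orderOf_dvd_of_pow_eq_one h2)
  exact (commutatorElement_eq_one_iff_mul_comm.1 h4).symm

/-- `p` does not divide `|S / A|` -/
theorem not_mem {p : ℕ} (hp : p.Prime) {L : Subgroup H} (hL : LP p L)
    (hirr : ∀ X : AddSubgroup W, (∀ g ∈ L, ∀ w ∈ X, g • w ∈ X) → X = ⊥ ∨ X = ⊤)
    (hfaith : ∀ h : H, (∀ w : W, h • w = w) → h = 1) {Q : Finset ℕ} {m : ℕ → ℕ} (hD : D.Num Q m) : p ∉ Q := by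
  intro hpQ
  have h1 := card_XQ D hD hpQ
  have h2 : ∀ x : XQ D p, x = 1 := by
    intro x
    obtain ⟨s, hs, rfl⟩ := exists_cl D x
    rw [cl_eq_one_iff]
    obtain ⟨n, hn, k, hk⟩ := exists_pow_eq s hp
    exact pow_mem_iff D hn hs.2 (mem_A_of_pEl D hp hL hirr hfaith (D.S.pow_mem hs.1 n) ⟨k, hk⟩)
  have h3 : Nat.card (XQ D p) = 1 := by
    rw [Nat.card_eq_one_iff_unique]
    exact ⟨⟨fun a b => by rw [h2 a, h2 b]⟩, ⟨1⟩⟩
  rw [h1] at h3
  have h4 := hD.one_le p hpQ
  have h5 : 1 < p ^ (2 * m p) := Nat.one_lt_pow (by omega) hp.one_lt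
  omega

/-- the group `[L, y]` acts nontrivially on some `X_q` if it is not nilpotent -/
theorem exists_not_triv {Q : Finset ℕ} {m : ℕ → ℕ} (hD : D.Num Q m) (X Y : Subgroup H)
    (h : ¬ Group.IsNilpotent (⁅X, Y⁆ : Subgroup H)) : ∃ q ∈ Q, ¬ ∀ x ∈ ⁅X, Y⁆, D.Triv q x := by
  by_contra hcon
  push Not at hcon
  apply h
  refine D.isNilpotent_of_le _ fun x hx => ?_
  exact mem_of_triv D hD (D.commutator_le X Y hx) fun q hq => hcon q hq x hx

variable [Group.IsSolvable H]

/-- **bad elements**: the dimension bound -/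
theorem dim_of_not_triv {p : ℕ} (hp : p.Prime) {L : Subgroup H} (hL : LP p L) {Q : Finset ℕ} {m : ℕ → ℕ}
    (hD : D.Num Q m) (P : Sylow p H) {q : ℕ} (hqQ : q ∈ Q) (hqp : q ≠ p)
    (hne : ¬ ∀ x ∈ ⁅L, (P : Subgroup H)⁆, D.Triv q x) :
    (q = 2 → p ≤ m 2) ∧ (q ≠ 2 → p ≤ 2 * m q + 1 ∧ (p = 7 → 4 ≤ m q)) := by
  have hq := hD.prime q hqQ
  have hEn : (⁅L, (P : Subgroup H)⁆ : Subgroup H).Normal := commutator_normal hp hL P
  have hEP := commutator_commutator hp hL P
  have hpE : ¬ p ∣ Nat.card (⁅L, (P : Subgroup H)⁆ : Subgroup H) := fun h =>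
    hL.cop (h.trans (Subgroup.card_dvd_of_le (commutator_le hL _)))
  obtain ⟨K, hKs, hqK, P', hP'⟩ := exists_section (rho D q).rangeRestrict (rho D q).rangeRestrict_surjective
    hp hq hqp ⁅L, (P : Subgroup H)⁆ hEn P hpE hEP
    (by
      intro E' hE'n _ h x hx
      have h3 := D.ss q hq E' hE'n (by
        intro y hy
        obtain ⟨k, hk⟩ := h y hy
        refine ⟨k, ?_⟩
        have h4 : rho D q (y ^ q ^ k) = 1 := by
          rw [map_pow]
          exact congrArg Subtype.val hk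
        exact (rho_eq_one_iff D _).1 h4) x hx
      exact Subtype.ext ((rho_eq_one_iff D x).2 h3))
    (by
      intro h
      apply hne
      intro x hx
      exact (rho_eq_one_iff D x).1 (congrArg Subtype.val (h x hx)))
  let _ := act ((rho D q).range.subtype.comp K.subtype)
  have hXf : Finite (Additive (XQ D q)) := inferInstanceAs (Finite (XQ D q))
  have hcard : Nat.card (Additive (XQ D q)) = q ^ (2 * m q) := card_XQ D hD hqQ
  have hX : ∀ x : Additive (XQ D q), q • x = 0 := fun x => cl_pow D q x.toMul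
  have hfaith : ∀ g : K, (∀ x : Additive (XQ D q), g • x = x) → g = 1 := by
    intro g hg
    refine Subtype.ext (Subtype.ext ?_)
    ext x
    exact congrArg Subtype.val (hg (Additive.ofMul x))
  constructor
  · rintro rfl
    have hodd : Odd (Nat.card K) := by
      rw [← Nat.not_even_iff_odd, even_iff_two_dvd]
      exact hqK
    have h3 := lemDTwo' p hp K hodd (Additive (XQ D 2)) hX hfaith (H668.Dim.beta D) (beta_add D)
      (beta_add' D) (beta_nondeg D)
      (by
        rintro ⟨⟨_, g, rfl⟩, hg⟩ x y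
        exact beta_inv D g x y) P' hP' _ hcard
    omega
  · intro hq2
    have h3 := lemD' q p hq hp K hqK (Additive (XQ D q)) hX hfaith P' hP' _ hcard
    have hm := hD.one_le q hqQ
    constructor
    · rcases h3 with h3 | ⟨h3, _⟩ <;> omega
    · rintro rfl
      rcases h3 with h3 | ⟨h3, k, hk⟩
      · omega
      · exfalso
        have h6 : 2 ^ k = 6 := by omega
        have h7 : k < 3 := by
          by_contra h
          have : 2 ^ 3 ≤ 2 ^ k := Nat.pow_le_pow_right (by norm_num) (by omega)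
          omega
        interval_cases k <;> omega

/-- **bad elements**: if `[L, y]` is not nilpotent for some `p`-element `y` then some `m q` is large -/
theorem bad_dim {p : ℕ} (hp : p.Prime) {L : Subgroup H} (hL : LP p L)
    (hirr : ∀ X : AddSubgroup W, (∀ g ∈ L, ∀ w ∈ X, g • w ∈ X) → X = ⊥ ∨ X = ⊤)
    (hfaith : ∀ h : H, (∀ w : W, h • w = w) → h = 1) {Q : Finset ℕ} {m : ℕ → ℕ} (hD : D.Num Q m) {y : H}
    (hy : PEl p y) (hbad : ¬ FH 1 (⁅L, Subgroup.zpowers y⁆ : Subgroup H)) :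
    ∃ q ∈ Q, q ≠ p ∧ (¬ ∀ x ∈ ⁅L, Subgroup.zpowers y⁆, D.Triv q x) ∧ (q = 2 → p ≤ m 2) ∧
      (q ≠ 2 → p ≤ 2 * m q + 1 ∧ (p = 7 → 4 ≤ m q)) := by
  rw [FH.one_iff] at hbad
  obtain ⟨P, hP⟩ := exists_sylow_mem hp hy
  obtain ⟨q, hqQ, hq⟩ := exists_not_triv D hD L (Subgroup.zpowers y) hbad
  have hqp : q ≠ p := by
    rintro rfl
    exact not_mem D hp hL hirr hfaith hD hqQ
  refine ⟨q, hqQ, hqp, hq, dim_of_not_triv D hp hL hD P hqQ hqp ?_⟩
  intro h
  apply hq
  intro x hx
  refine h x (Subgroup.commutator_mono le_rfl ?_ hx)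
  rw [Subgroup.zpowers_le]
  exact hP

end

end Cfsg.Agent.H699.RC
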